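import Groth.Agent.CMReg7.Res
import Groth.Agent.CMReg7.Gen
import Groth.Agent.CohPullLib.NbhdExchange
import Groth.Agent.FlatTwist.Main
import Groth.Agent.S11319

/-! Direct images of twists of a sheaf with regular fibres. -/

set_option autoImplicit false
set_option linter.style.haveILetI false
set_option backward.isDefEq.respectTransparency false
set_option backward.isDefEq.respectTransparency.types false
set_option maxHeartbeats 1000000

universe u

open CategoryTheory CategoryTheory.Limits AlgebraicGeometry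

namespace Groth.Agent.MRegPush

open Groth.Agent Groth.Agent.H23.PicMul

theorem isZero_of_iso_restrict_top {S : Scheme.{u}} {M : S.Modules}
    (h : IsZero (M.restrict (⊤ : S.Opens).ι)) : IsZero M := by
  rw [IsZero.iff_id_eq_zero]
  refine Scheme.Modules.hom_ext _ _ fun V => ?_
  ext x
  have e : (⊤ : S.Opens).ι ''ᵁ ((⊤ : S.Opens).ι ⁻¹ᵁ V) = V := by
    rw [Scheme.Hom.image_preimage_eq_opensRange_inf, Scheme.Opens.opensRange_ι, top_inf_eq]
  have hs : Subsingleton Γ(M, (⊤ : S.Opens).ι ''ᵁ ((⊤ : S.Opens).ι ⁻¹ᵁ V)) := by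
    refine ⟨fun a b => ?_⟩
    have h0 := (IsZero.iff_id_eq_zero _).1 h
    have ha := congr(($h0).app ((⊤ : S.Opens).ι ⁻¹ᵁ V) a)
    have hb := congr(($h0).app ((⊤ : S.Opens).ι ⁻¹ᵁ V) b)
    exact ha.trans hb.symm
  rw [e] at hs
  exact Subsingleton.elim _ _

variable {S : Scheme.{u}} [IsNoetherian S] {n : ℕ}

theorem main (Q : (CohB1.ProjSpaceOver n S).Modules) (hQ : Coh.IsCoh Q)
    (hflat : FlatMod.IsFlatOver (CohB1.ProjSpaceOver.toBase n S) Q) (m : ℤ)
    (hreg : ∀ (s : S) (i : ℕ), 1 ≤ i →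
      Subsingleton (Coh.HH (pullback (CohB1.ProjSpaceOver.toBase n S) (S.fromSpecResidueField s))
        ((Scheme.Modules.pullback
            (pullback.fst (CohB1.ProjSpaceOver.toBase n S) (S.fromSpecResidueField s))).obj
          (CohB1.tensorMod Q (Twist.twistOver n S (m - i)))) i))
    (d : ℤ) (hd : m ≤ d) :
    FlatMod.IsFinLocFree ((Coh.push (CohB1.ProjSpaceOver.toBase n S)).obj
        (CohB1.tensorMod Q (Twist.twistOver n S d))) ∧
      (∀ i : ℕ, 1 ≤ i → IsZero ((Coh.RpushAb (CohB1.ProjSpaceOver.toBase n S) i).obj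
        (Coh.toAb (CohB1.tensorMod Q (Twist.twistOver n S d))))) ∧
      Epi ((Scheme.Modules.pullbackPushforwardAdjunction (CohB1.ProjSpaceOver.toBase n S)).counit.app
        (CohB1.tensorMod Q (Twist.twistOver n S d))) := by
  let p := KRR.pr n S
  haveI : IsProper p := CMReg7.isProper_pr (n := n) (T := S)
  haveI : HasInjectiveResolutions (KRR.PY n S).Modules := KFlatLib.hasInjectiveResolutions_modules
  haveI : IsLocallyNoetherian (KRR.PY n S) := LocallyOfFiniteType.isLocallyNoetherian p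
  let G : ℤ → (KRR.PY n S).Modules := fun k => CohB1.tensorMod Q (Twist.twistOver n S k)
  have hinv : ∀ k : ℤ, PicF.IsInvertible (Twist.twistOver n S k) := fun k => RegSheaf7.isInvertible_twistOver (n := n) (T := S) k
  have hcoh : ∀ k, Coh.IsCoh (G k) := fun k => AmpleVan.isCoh_tensor hQ (AmpleVan.isCoh_invertible (hinv k))
  have hflk : ∀ k, FlatMod.IsFlatOver p (G k) := fun k => FlatTwist.isFlatOver_tensor p hQ.1 hflat (hinv k)
  have htw : ∀ a b c : ℤ, a + b = c → Nonempty (KRR.twF n S a (G b) ≅ G c) := fun a b c h =>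
    cl_eq_iff.1 (by
      show PicF.cl (CohB1.tensorMod _ (CohB1.tensorMod Q _)) = PicF.cl (CohB1.tensorMod Q _)
      rw [cl_tensor, cl_tensor, cl_tensor, mul_left_comm, RegSheaf7.cl_twistOver_add, h])
  have hz : ∀ i : ℕ, 1 ≤ i → IsZero ((Coh.RpushAb p i).obj (Coh.toAb (G (m - i)))) := by
    intro i hi
    have h1 : ∀ y ∈ (⊤ : S.Opens), CohPullLib.VanAt p (G (m - i)) i y := fun y _ =>
      CohPullLib.vanAt_of_subsingleton (hcoh _).1 (KZ.LFRes.isFP_of_isCoh (hcoh _)) (hflk _) i (hreg y i hi)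
    have h2 := isZero_of_iso_restrict_top (CohPullLib.isZero_restrict_of_vanAt (hcoh _).1 i h1)
    obtain ⟨e⟩ := S11319.result p (G (m - i)) i
    exact ((QCoh.toAbFunctor S).map_isZero h2).of_iso e.symm
  have hregm : KRR.IsRegSheaf n S (G m) := fun i hi => by
    obtain ⟨e⟩ := htw (-(i : ℤ)) m (m - i) (by ring)
    exact (hz i hi).of_iso ((Coh.RpushAb p i).mapIso ((QCoh.toAbFunctor _).mapIso e))
  obtain ⟨k, hk⟩ := Int.le.dest hd
  have hregd : KRR.IsRegSheaf n S (G d) :=
    CMReg7.reg_of_iso (htw (k : ℤ) m d (by omega)).some (CMReg7.reg_twF (G m) hregm k)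
  have hvan : ∀ i : ℕ, 1 ≤ i → IsZero ((Coh.RpushAb p i).obj (Coh.toAb (G d))) := fun i hi =>
    CMReg7.higher_zero (G d) hregd i hi
  refine ⟨?_, hvan, CMReg7.epi_counit (G d) (hcoh d).1 hregd⟩
  refine CohPullLib.isFinLocFree_push_of_exchAt (hcoh d).1 (KZ.LFRes.isFP_of_isCoh (hcoh d)) (hflk d) fun y => ?_
  refine CohPullLib.exchAt_of_isFinLocFree_above (hcoh d).1 (KZ.LFRes.isFP_of_isCoh (hcoh d)) (hflk d) (m := 0)
    (fun i hi => ?_) y 0 le_rfl
  obtain ⟨e⟩ := S11319.result p (G d) i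
  refine KFlatLib.isFinLocFree_of_isZero ?_
  haveI : (QCoh.toAbFunctor S).Faithful := inferInstanceAs (SheafOfModules.toSheaf S.ringCatSheaf).Faithful
  rw [IsZero.iff_id_eq_zero]
  apply (QCoh.toAbFunctor S).map_injective
  exact ((hvan i hi).of_iso e).eq_of_src _ _

end Groth.Agent.MRegPush
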